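import Mathlib
import Cfsg.Agent.H363.TwoPrimes
import Cfsg.Agent.H163.PG.Few_m3
import Cfsg.Agent.S2119
import Cfsg.Agent.H824.ProdLem
import Cfsg.Agent.Prune
set_option linter.all false
prune_inst 0x7f00000000000000000000000000000000000000000000000000000000000000000000000000000000000000000000000000000000000000000000000000000000000000000000000000000000000000003fffffffffffffffffffffffffffbeffbdffffffff
open scoped Cfsg.Agent.FastGrp

-- part: H171/ThreePrimes
section
/-!
# Three primes between `m` and `2m`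

For `m ≥ 9` there are three primes in `(m, 2m]`.
-/

set_option autoImplicit false

namespace Cfsg.Agent.H171.ThreePrimes

open Nat Finset Cfsg.Agent.H363.TwoPrimes

theorem main_inequality (n : ℕ) (hn : 2048 ≤ n) :
    n * ((2 * n) ^ sqrt (2 * n) * 4 ^ (2 * n / 3) * (2 * n) ^ 2) ≤ 4 ^ n := by
  set s := sqrt (2 * n) with hs
  have hs64 : 64 ≤ s := by
    rw [hs, Nat.le_sqrt]
    omega
  have hlt : 2 * n < (s + 1) * (s + 1) := Nat.lt_succ_sqrt (2 * n)
  have hle : s * s ≤ 2 * n := Nat.sqrt_le (2 * n)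
  set k := n - 2 * n / 3 with hk
  have hk1 : 10 * k ≥ s * (s + 3) := by
    have h1 : 3 * k ≥ n := by omega
    nlinarith
  have h1 : (s + 1) ^ (s + 3) ≤ 2 ^ k := by
    have h2 : ((s + 1) ^ (s + 3)) ^ 10 ≤ (2 ^ k) ^ 10 := by
      calc ((s + 1) ^ (s + 3)) ^ 10 = ((s + 1) ^ 10) ^ (s + 3) := by
            rw [← pow_mul, ← pow_mul, Nat.mul_comm]
        _ ≤ (2 ^ s) ^ (s + 3) := Nat.pow_le_pow_left (pow_ten_le s hs64) _
        _ = 2 ^ (s * (s + 3)) := by rw [← pow_mul]
        _ ≤ 2 ^ (10 * k) := Nat.pow_le_pow_right (by norm_num) hk1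
        _ = (2 ^ k) ^ 10 := by rw [← pow_mul, Nat.mul_comm]
    exact (Nat.pow_le_pow_iff_left (by norm_num)).mp h2
  have h3 : (2 * n) ^ (s + 3) ≤ 4 ^ k := by
    calc (2 * n) ^ (s + 3) ≤ ((s + 1) * (s + 1)) ^ (s + 3) := Nat.pow_le_pow_left hlt.le _
      _ = (s + 1) ^ (s + 3) * (s + 1) ^ (s + 3) := by rw [mul_pow]
      _ ≤ 2 ^ k * 2 ^ k := Nat.mul_le_mul h1 h1
      _ = 4 ^ k := by rw [← mul_pow]; norm_num
  calc n * ((2 * n) ^ s * 4 ^ (2 * n / 3) * (2 * n) ^ 2)
      ≤ (2 * n) * ((2 * n) ^ s * 4 ^ (2 * n / 3) * (2 * n) ^ 2) := Nat.mul_le_mul_right _ (by omega)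
    _ = (2 * n) ^ (s + 3) * 4 ^ (2 * n / 3) := by ring
    _ ≤ 4 ^ k * 4 ^ (2 * n / 3) := Nat.mul_le_mul_right _ h3
    _ = 4 ^ (k + 2 * n / 3) := by rw [← pow_add]
    _ = 4 ^ n := by congr 1; omega

/-- For large `n` there are at least three primes in `(n, 2n]`. -/
theorem three_le_card_T (n : ℕ) (hn : 2048 ≤ n) : 3 ≤ (T n).card := by
  by_contra h
  have h1 : (T n).card ≤ 2 := by omega
  have h2 : 4 ^ n < n * n.centralBinom := Nat.four_pow_lt_mul_centralBinom n (by omega)
  have h3 : centralBinom n ≤ (2 * n) ^ sqrt (2 * n) * 4 ^ (2 * n / 3) * (2 * n) ^ 2 := by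
    refine (centralBinom_le n (by omega)).trans ?_
    apply Nat.mul_le_mul_left
    exact Nat.pow_le_pow_right (by omega) h1
  have h4 := main_inequality n hn
  have h5 : n * n.centralBinom ≤ 4 ^ n := (Nat.mul_le_mul_left n h3).trans h4
  omega

/-- three primes in `(m, 2m]` -/
def Ex3 (m : ℕ) : Prop := ∃ p q r : ℕ, p.Prime ∧ q.Prime ∧ r.Prime ∧ m < p ∧ p < q ∧ q < r ∧ r ≤ 2 * m

theorem step {m : ℕ} (a p q r : ℕ) (hp : p.Prime) (hq : q.Prime) (hr : r.Prime) (hpq : p < q) (hqr : q < r)
    (hcov : r ≤ 2 * a) (H : m < a → Ex3 m) (hm : m < p) : Ex3 m := by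
  by_cases h : m < a
  · exact H h
  · exact ⟨p, q, r, hp, hq, hr, hm, hpq, hqr, by omega⟩

/-- **Three primes**: for `m ≥ 9` there are three primes in `(m, 2m]`. -/
theorem exists_three_primes (m : ℕ) (hm : 9 ≤ m) : Ex3 m := by
  rcases Nat.lt_or_ge m 2048 with h | h
  · replace h : m < 2963 := by omega
    revert h
    refine step 1489 2963 2969 2971 (by norm_num) (by norm_num) (by norm_num) (by norm_num) (by norm_num) (by norm_num) ?_
    refine step 751 1489 1493 1499 (by norm_num) (by norm_num) (by norm_num) (by norm_num) (by norm_num) (by norm_num) ?_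
    refine step 383 751 757 761 (by norm_num) (by norm_num) (by norm_num) (by norm_num) (by norm_num) (by norm_num) ?_
    refine step 199 383 389 397 (by norm_num) (by norm_num) (by norm_num) (by norm_num) (by norm_num) (by norm_num) ?_
    refine step 113 199 211 223 (by norm_num) (by norm_num) (by norm_num) (by norm_num) (by norm_num) (by norm_num) ?_
    refine step 67 113 127 131 (by norm_num) (by norm_num) (by norm_num) (by norm_num) (by norm_num) (by norm_num) ?_
    refine step 37 67 71 73 (by norm_num) (by norm_num) (by norm_num) (by norm_num) (by norm_num) (by norm_num) ?_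
    refine step 23 37 41 43 (by norm_num) (by norm_num) (by norm_num) (by norm_num) (by norm_num) (by norm_num) ?_
    refine step 17 23 29 31 (by norm_num) (by norm_num) (by norm_num) (by norm_num) (by norm_num) (by norm_num) ?_
    refine step 13 17 19 23 (by norm_num) (by norm_num) (by norm_num) (by norm_num) (by norm_num) (by norm_num) ?_
    refine step 11 13 17 19 (by norm_num) (by norm_num) (by norm_num) (by norm_num) (by norm_num) (by norm_num) ?_
    refine step 9 11 13 17 (by norm_num) (by norm_num) (by norm_num) (by norm_num) (by norm_num) (by norm_num) ?_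
    intro h
    omega
  · have h2 := three_le_card_T m h
    obtain ⟨S, hS, hS3⟩ := Finset.exists_subset_card_eq h2
    obtain ⟨a, b, c, hab, hac, hbc, rfl⟩ := Finset.card_eq_three.1 hS3
    have ha := hS (by simp : a ∈ ({a, b, c} : Finset ℕ))
    have hb := hS (by simp : b ∈ ({a, b, c} : Finset ℕ))
    have hc := hS (by simp : c ∈ ({a, b, c} : Finset ℕ))
    simp only [T, Finset.mem_filter, Finset.mem_Ioc] at ha hb hc
    obtain ⟨⟨ha1, ha2⟩, ha3⟩ := ha
    obtain ⟨⟨hb1, hb2⟩, hb3⟩ := hb
    obtain ⟨⟨hc1, hc2⟩, hc3⟩ := hc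
    rcases lt_or_gt_of_ne hab with h1 | h1 <;> rcases lt_or_gt_of_ne hac with h3 | h3 <;>
      rcases lt_or_gt_of_ne hbc with h4 | h4
    · exact ⟨a, b, c, ha3, hb3, hc3, ha1, h1, h4, hc2⟩
    · exact ⟨a, c, b, ha3, hc3, hb3, ha1, h3, h4, hb2⟩
    · omega
    · exact ⟨c, a, b, hc3, ha3, hb3, hc1, h3, h1, hb2⟩
    · exact ⟨b, a, c, hb3, ha3, hc3, hb1, h1, h3, hc2⟩
    · omega
    · exact ⟨b, c, a, hb3, hc3, ha3, hb1, h4, h3, ha2⟩
    · exact ⟨c, b, a, hc3, hb3, ha3, hc1, h4, h1, ha2⟩

/-- For `n ≥ 17` there are three primes `p < q < r ≤ n` with `n < 2 p`. -/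
theorem exists_three_primes' (n : ℕ) (hn : 17 ≤ n) :
    ∃ p q r : ℕ, p.Prime ∧ q.Prime ∧ r.Prime ∧ n < 2 * p ∧ p < q ∧ q < r ∧ r ≤ n := by
  by_cases h17 : n = 17
  · exact ⟨11, 13, 17, by norm_num, by norm_num, by norm_num, by omega, by omega, by omega, by omega⟩
  · obtain ⟨p, q, r, hp, hq, hr, h1, h2, h3, h4⟩ := exists_three_primes (n / 2) (by omega)
    exact ⟨p, q, r, hp, hq, hr, by omega, h2, h3, by omega⟩

end Cfsg.Agent.H171.ThreePrimes
end

-- part: H171/AltGoal
section
/-!
# Prime graphs of the almost simple groups with alternating socle (part of S2529)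
-/

set_option autoImplicit false

namespace Cfsg.Agent.H171.AltGoal

open Equiv Equiv.Perm Cfsg.Agent.H163.PG

/-- a prime dividing the order of a permutation divides the length of one of its cycles -/
theorem exists_mem_of_dvd_lcm {p : ℕ} (hp : p.Prime) {s : Multiset ℕ} (h : p ∣ s.lcm) : ∃ c ∈ s, p ∣ c := by
  induction s using Multiset.induction_on with
  | empty =>
    rw [Multiset.lcm_zero] at h
    exact absurd (Nat.dvd_one.1 h) hp.one_lt.ne'
  | cons a s ih =>
    rw [Multiset.lcm_cons] at h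
    rcases (hp.dvd_mul).1 (h.trans (lcm_dvd_mul a s.lcm)) with h1 | h1
    · exact ⟨a, Multiset.mem_cons_self a s, h1⟩
    · obtain ⟨c, hc, hpc⟩ := ih h1
      exact ⟨c, Multiset.mem_cons_of_mem hc, hpc⟩

/-- a permutation of order `pq` moves at least `p + q` points -/
theorem add_le_of_orderOf {n p q : ℕ} (hp : p.Prime) (hq : q.Prime) (hpq : p ≠ q) {σ : Perm (Fin n)}
    (h : orderOf σ = p * q) : p + q ≤ n := by
  have hl : σ.cycleType.lcm = p * q := by rw [lcm_cycleType, h]
  have hs : σ.cycleType.sum ≤ n := by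
    rw [sum_cycleType]
    simpa using Finset.card_le_univ σ.support
  obtain ⟨c, hc, hpc⟩ := exists_mem_of_dvd_lcm hp (s := σ.cycleType) (by rw [hl]; exact Dvd.intro _ rfl)
  obtain ⟨d, hd, hqd⟩ := exists_mem_of_dvd_lcm hq (s := σ.cycleType) (by rw [hl]; exact Dvd.intro_left _ rfl)
  have hc0 : 0 < c := lt_of_lt_of_le (by norm_num) (two_le_of_mem_cycleType hc)
  have hd0 : 0 < d := lt_of_lt_of_le (by norm_num) (two_le_of_mem_cycleType hd)
  have hpc' := Nat.le_of_dvd hc0 hpc
  have hqd' := Nat.le_of_dvd hd0 hqd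
  obtain ⟨t, ht⟩ := Multiset.exists_cons_of_mem hc
  rw [ht, Multiset.sum_cons] at hs
  by_cases hcd : d = c
  · subst hcd
    have h1 : p * q ∣ d := Nat.Coprime.mul_dvd_of_dvd_of_dvd ((Nat.coprime_primes hp hq).2 hpq) hpc hqd
    have h2 := Nat.le_of_dvd hc0 h1
    have h3 := Nat.add_le_mul hp.two_le hq.two_le
    omega
  · rw [ht, Multiset.mem_cons] at hd
    obtain ⟨u, hu⟩ := Multiset.exists_cons_of_mem (hd.resolve_left hcd)
    rw [hu, Multiset.sum_cons] at hs
    omega

theorem not_adj {n p q : ℕ} (hp : p.Prime) (hq : q.Prime) (hpq : p ≠ q) (h : n < p + q) :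
    ¬ Adj (alternatingGroup (Fin n)) p q := by
  rintro ⟨g, hg⟩
  have h1 := add_le_of_orderOf hp hq hpq (σ := (g : Perm (Fin n))) (by rw [Subgroup.orderOf_coe, hg])
  omega

/-- adjacency from a cycle type -/
theorem adj_of_type {n p q : ℕ} (m : Multiset ℕ) (h1 : m.sum ≤ n) (h2 : ∀ a ∈ m, 2 ≤ a)
    (he : Even (m.sum + Multiset.card m)) (hl : m.lcm = p * q) : Adj (alternatingGroup (Fin n)) p q := by
  obtain ⟨x, hx⟩ := (exists_with_cycleType_iff (α := Fin n) (m := m)).2 ⟨by rw [Fintype.card_fin]; exact h1, h2⟩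
  have hxs : x ∈ alternatingGroup (Fin n) := by
    rw [mem_alternatingGroup, sign_of_cycleType, hx, he.neg_one_pow]
  exact ⟨⟨x, hxs⟩, by rw [Subgroup.orderOf_mk, ← lcm_cycleType, hx, hl]⟩

theorem two_mul_card {n : ℕ} (hn : 2 ≤ n) : 2 * Nat.card (alternatingGroup (Fin n)) = n.factorial := by
  have : Nontrivial (Fin n) := Fin.nontrivial_iff_two_le.2 hn
  rw [two_mul_nat_card_alternatingGroup, Nat.card_perm, Nat.card_fin]

theorem le_of_dvd {n p : ℕ} (hn : 2 ≤ n) (hp : p.Prime) (h : p ∣ Nat.card (alternatingGroup (Fin n))) : p ≤ n := by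
  rw [← hp.dvd_factorial, ← two_mul_card hn]
  exact h.mul_left 2

theorem dvd_of_le {n p : ℕ} (hn : 2 ≤ n) (hp : p.Prime) (hp2 : p ≠ 2) (h : p ≤ n) :
    p ∣ Nat.card (alternatingGroup (Fin n)) := by
  have h1 : p ∣ 2 * Nat.card (alternatingGroup (Fin n)) := by
    rw [two_mul_card hn]
    exact hp.dvd_factorial.2 h
  exact (hp.dvd_mul.1 h1).resolve_left fun h2 => hp2 ((Nat.prime_dvd_prime_iff_eq hp Nat.prime_two).1 h2)

/-- `|Out S| |S| = |Aut S|` for centerless groups -/
theorem card_out_mul {S : Type*} [Group S] (hZ : Subgroup.center S = ⊥) :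
    Nat.card S * Nat.card (Cfsg.Out S) = Nat.card (MulAut S) := by
  have h1 : Nat.card (Cfsg.Inn S) = Nat.card S := by
    have h2 : Function.Injective (MulAut.conj : S →* MulAut S) := by
      rw [injective_iff_map_eq_one]
      intro g hg
      have h3 : g ∈ Subgroup.center S := by
        rw [Subgroup.mem_center_iff]
        intro x
        have h4 := DFunLike.congr_fun hg x
        rw [MulAut.conj_apply, MulAut.one_apply] at h4
        exact (mul_inv_eq_iff_eq_mul.1 h4).symm
      rwa [hZ, Subgroup.mem_bot] at h3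
    exact (Nat.card_congr (MonoidHom.ofInjective h2).toEquiv).symm
  rw [← h1]
  exact (Cfsg.Inn S).card_mul_index

theorem center_alt {n : ℕ} (hn : 5 ≤ n) : Subgroup.center (alternatingGroup (Fin n)) = ⊥ := by
  have hs : IsSimpleGroup (alternatingGroup (Fin n)) := alternatingGroup.isSimpleGroup (by simpa using hn)
  rcases hs.eq_bot_or_eq_top_of_normal (Subgroup.center (alternatingGroup (Fin n))) inferInstance with h1 | h1
  · exact h1
  · exfalso
    have h3 : ∀ a b : alternatingGroup (Fin n), a * b = b * a := fun a b => by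
      have : b ∈ Subgroup.center (alternatingGroup (Fin n)) := by rw [h1]; trivial
      exact (Subgroup.mem_center_iff.1 this) a
    have h4 : (Nat.card (alternatingGroup (Fin n))).Prime := by
      let _ : CommGroup (alternatingGroup (Fin n)) := { (inferInstance : Group (alternatingGroup (Fin n))) with
        mul_comm := h3 }
      exact IsSimpleGroup.prime_card
    have h5 := dvd_of_le (n := n) (by omega) Nat.prime_three (by norm_num) (by omega)
    have h6 := dvd_of_le (n := n) (by omega) Nat.prime_five (by norm_num) (by omega)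
    have h7 := (Nat.prime_dvd_prime_iff_eq Nat.prime_three h4).1 h5
    have h8 := (Nat.prime_dvd_prime_iff_eq Nat.prime_five h4).1 h6
    omega

/-- **`|Out A_n| = 2`, `n ≠ 6`.** -/
theorem card_out {n : ℕ} (hn : 5 ≤ n) (h6 : n ≠ 6) : Nat.card (Cfsg.Out (alternatingGroup (Fin n))) = 2 := by
  have h1 : Nat.card (MulAut (alternatingGroup (Fin n))) = Nat.card (Equiv.Perm (Fin n)) :=
    (Nat.card_congr (Equiv.ofBijective _ (Cfsg.Agent.S2119.result n (by omega) h6))).symm
  have h2 := card_out_mul (center_alt hn)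
  have h3 := two_mul_card (n := n) (by omega)
  rw [h1, Nat.card_perm, Nat.card_fin, ← h3, mul_comm] at h2
  exact Nat.eq_of_mul_eq_mul_right Nat.card_pos h2

/-- primes dividing `|Out A_n|` -/
theorem prime_out {n p : ℕ} (hn : 5 ≤ n) (hp : p.Prime) (h : p ∣ Nat.card (Cfsg.Out (alternatingGroup (Fin n)))) :
    p = 2 := by
  by_cases h6 : n = 6
  · subst h6
    have h1 := card_out_mul (center_alt hn)
    rw [Cfsg.Agent.H824.ProdLem.card_a6, Cfsg.Agent.H824.ProdLem.card_aut_a6] at h1
    have h2 : Nat.card (Cfsg.Out (alternatingGroup (Fin 6))) = 4 := by omega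
    rw [h2] at h
    have h3 : p ∣ 2 := hp.dvd_of_dvd_pow (show p ∣ 2 ^ 2 from h)
    exact (Nat.prime_dvd_prime_iff_eq hp Nat.prime_two).1 h3
  · rw [card_out hn h6] at h
    exact (Nat.prime_dvd_prime_iff_eq hp Nat.prime_two).1 h

/-- three primes `p < q < r ≤ n` with `p + q > n` -/
theorem goal_of_three.{b} {n p q r : ℕ} (hn : 5 ≤ n) (hp : p.Prime) (hq : q.Prime) (hr : r.Prime) (h2p : 2 < p)
    (hpq : p < q) (hqr : q < r) (hrn : r ≤ n) (h : n < p + q) : Goal.{0, b} (alternatingGroup (Fin n)) := by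
  apply goal_of_has3Out
  refine ⟨p, q, r, hp, hq, hr, hpq.ne, hqr.ne, (hpq.trans hqr).ne, dvd_of_le (by omega) hp (by omega) (by omega),
    dvd_of_le (by omega) hq (by omega) (by omega), dvd_of_le (by omega) hr (by omega) hrn,
    not_adj hp hq hpq.ne h, not_adj hq hr hqr.ne (by omega), not_adj hp hr (hpq.trans hqr).ne (by omega), ?_, ?_, ?_⟩
  · exact fun h' => absurd (prime_out hn hp h') (by omega)
  · exact fun h' => absurd (prime_out hn hq h') (by omega)
  · exact fun h' => absurd (prime_out hn hr h') (by omega)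

theorem goal_small.{b} {n : ℕ} (hn : 5 ≤ n) (h10 : n ≤ 10) : Goal.{0, b} (alternatingGroup (Fin n)) := by
  refine goal_of_primes {2, 3, 5, 7} (by decide) ?_ ?_
  · intro p hp h
    have h1 := le_of_dvd (by omega) hp h
    have h2 : p ≤ 10 := by omega
    interval_cases p <;> first | decide | exact absurd hp (by norm_num)
  · intro p hp h
    rw [prime_out hn hp h]
    decide

theorem adj_twelve {p q : ℕ} (hpq : p ≠ q) (hp : p = 2 ∨ p = 3 ∨ p = 5 ∨ p = 7) (hq : q = 2 ∨ q = 3 ∨ q = 5 ∨ q = 7) :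
    Adj (alternatingGroup (Fin 12)) p q := by
  have a23 : Adj (alternatingGroup (Fin 12)) 2 3 :=
    adj_of_type {3, 2, 2} (by decide) (by decide) (by decide) (by decide)
  have a25 : Adj (alternatingGroup (Fin 12)) 2 5 :=
    adj_of_type {5, 2, 2} (by decide) (by decide) (by decide) (by decide)
  have a27 : Adj (alternatingGroup (Fin 12)) 2 7 :=
    adj_of_type {7, 2, 2} (by decide) (by decide) (by decide) (by decide)
  have a35 : Adj (alternatingGroup (Fin 12)) 3 5 :=
    adj_of_type {3, 5} (by decide) (by decide) (by decide) (by decide)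
  have a37 : Adj (alternatingGroup (Fin 12)) 3 7 :=
    adj_of_type {3, 7} (by decide) (by decide) (by decide) (by decide)
  have a57 : Adj (alternatingGroup (Fin 12)) 5 7 :=
    adj_of_type {5, 7} (by decide) (by decide) (by decide) (by decide)
  rcases hp with rfl | rfl | rfl | rfl <;> rcases hq with rfl | rfl | rfl | rfl
  · exact absurd rfl hpq
  · exact a23
  · exact a25
  · exact a27
  · exact a23.symm
  · exact absurd rfl hpq
  · exact a35
  · exact a37
  · exact a25.symm
  · exact a35.symm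
  · exact absurd rfl hpq
  · exact a57
  · exact a27.symm
  · exact a37.symm
  · exact a57.symm
  · exact absurd rfl hpq

theorem goal_twelve.{b} : Goal.{0, b} (alternatingGroup (Fin 12)) := by
  intro G _ _ N _ ⟨e⟩ hC
  right
  refine ⟨fun p => p = 11, fun p q hp hq hpq hpG hqG hX => ?_⟩
  have key : ∀ p : ℕ, p.Prime → p ∣ Nat.card G → p = 2 ∨ p = 3 ∨ p = 5 ∨ p = 7 ∨ p = 11 := by
    intro p hp hpG
    rcases (hp.dvd_mul).1 (hpG.trans (card_dvd_mul_out N e hC)) with h | h
    · have h1 := le_of_dvd (by norm_num) hp h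
      interval_cases p <;> first | decide | exact absurd hp (by norm_num)
    · exact Or.inl (prime_out (by norm_num) hp h)
  have h1 := key p hp hpG
  have h2 := key q hq hqG
  have h3 : Adj (alternatingGroup (Fin 12)) p q := by
    by_cases h11 : p = 11
    · exact absurd (h11.trans (hX.1 h11).symm) hpq
    · have h12 : q ≠ 11 := fun h => h11 (hX.2 h)
      exact adj_twelve hpq (by tauto) (by tauto)
  exact Adj.of_subgroup (N := N) ((adj_congr e).2 h3)

/-- **The alternating socles** (`n ≥ 5`). -/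
theorem goal_alt.{b} {n : ℕ} (hn : 5 ≤ n) : Goal.{0, b} (alternatingGroup (Fin n)) := by
  rcases Nat.lt_or_ge 10 n with h10 | h10
  · by_cases h11 : n = 11
    · subst h11
      exact goal_of_three (p := 5) (q := 7) (r := 11) hn (by norm_num) (by norm_num) (by norm_num) (by norm_num)
        (by norm_num) (by norm_num) (by norm_num) (by norm_num)
    by_cases h12 : n = 12
    · subst h12
      exact goal_twelve
    rcases Nat.lt_or_ge n 17 with h17 | h17
    · exact goal_of_three (p := 7) (q := 11) (r := 13) hn (by norm_num) (by norm_num) (by norm_num) (by norm_num)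
        (by norm_num) (by norm_num) (by omega) (by omega)
    · obtain ⟨p, q, r, hp, hq, hr, h1, h2, h3, h4⟩ := ThreePrimes.exists_three_primes' n h17
      exact goal_of_three (p := p) (q := q) (r := r) hn hp hq hr (by omega) h2 h3 h4 (by omega)
  · exact goal_small hn h10

end Cfsg.Agent.H171.AltGoal
end
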