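import Mathlib
import Cfsg.Agent.H174.JordanSum
set_option linter.all false

/-!
# Elementary divisors of a linear map

`IsED T M`: the multiset `M` of pairs `(p, e)` is a multiset of elementary divisors `p ^ e` of `T`.
* `exists_isED`: existence, with monic irreducible `p` and `e ≥ 1`;
* `IsED.exists_equiv`: equal multisets ⇒ similar maps;
* `IsED.finrank_eq`, `IsED.count`: dimension, and the multiplicities in terms of the dimensions of kernels;
* `IsED.unique`.
-/

set_option autoImplicit false

namespace Cfsg.Agent.H171.ElemDiv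

open Polynomial Module

variable {F : Type*} [Field F] {V : Type*} [AddCommGroup V] [Module F V]
  {W : Type*} [AddCommGroup W] [Module F W]

/-- the cyclic module `F[X] / (p ^ e)` -/
abbrev Cyc (c : F[X] × ℕ) : Type _ := F[X] ⧸ (Submodule.span F[X] {c.1 ^ c.2})

/-- `M` is a multiset of elementary divisors of `T` -/
def IsED (T : V →ₗ[F] V) (M : Multiset (F[X] × ℕ)) : Prop :=
  ∃ (n : ℕ) (c : Fin n → F[X] × ℕ), Finset.univ.val.map c = M ∧
    ∃ ψ : V ≃ₗ[F] (∀ i, Cyc (c i)), ∀ v, ψ (T v) = (X : F[X]) • ψ v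

/-- the multiset consists of pairs `(p, e)` with `p` monic irreducible and `e ≥ 1` -/
def Good (M : Multiset (F[X] × ℕ)) : Prop := ∀ c ∈ M, c.1.Monic ∧ Irreducible c.1 ∧ 1 ≤ c.2

/-- the type from a family over any finite index type -/
theorem isED_of_family {ι : Type*} [Fintype ι] {T : V →ₗ[F] V} (c : ι → F[X] × ℕ)
    (ψ : V ≃ₗ[F] (∀ i, Cyc (c i))) (hψ : ∀ v, ψ (T v) = (X : F[X]) • ψ v) :
    IsED T (Finset.univ.val.map c) := by
  classical
  let σ : Fin (Fintype.card ι) ≃ ι := (Fintype.equivFin ι).symm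
  refine ⟨Fintype.card ι, fun k => c (σ k), ?_, ?_⟩
  · have h : (Finset.univ : Finset ι) = Finset.univ.map σ.toEmbedding := by
      rw [Finset.map_univ_equiv]
    rw [h, Finset.map_val, Multiset.map_map]
    rfl
  · let ρ : (∀ i, Cyc (c i)) ≃ₗ[F] (∀ k, Cyc (c (σ k))) :=
      LinearEquiv.piCongrLeft' F (fun i => Cyc (c i)) σ.symm
    refine ⟨ψ.trans ρ, fun v => ?_⟩
    funext k
    have h1 : ∀ x : (∀ i, Cyc (c i)), ρ x k = x (σ k) := fun x => rfl
    rw [LinearEquiv.trans_apply, h1, hψ, Pi.smul_apply, Pi.smul_apply, LinearEquiv.trans_apply, h1]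

/-- **Existence of elementary divisors.** -/
theorem exists_isED [FiniteDimensional F V] (T : V →ₗ[F] V) :
    ∃ M : Multiset (F[X] × ℕ), Good M ∧ IsED T M := by
  classical
  have hfin : Module.Finite F (Module.AEval' T) := inferInstance
  have hfin2 : Module.Finite F[X] (Module.AEval' T) := Module.Finite.of_restrictScalars_finite F F[X] _
  have htor : Module.IsTorsion F[X] (Module.AEval' T) :=
    Module.AEval.isTorsion_of_finiteDimensional F V T
  obtain ⟨ι, _, p, hp, e, ⟨φ⟩⟩ := Module.equiv_directSum_of_isTorsion htor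
  have hpne : ∀ i, p i ≠ 0 := fun i => (hp i).ne_zero
  -- normalised
  let c₀ : ι → F[X] × ℕ := fun i => (normalize (p i), e i)
  let ι' := {i : ι // e i ≠ 0}
  let c : ι' → F[X] × ℕ := fun i => c₀ i.1
  have hspan : ∀ i, Submodule.span F[X] {p i ^ e i} = Submodule.span F[X] {(c₀ i).1 ^ (c₀ i).2} := by
    intro i
    have h : Associated (p i ^ e i) ((normalize (p i)) ^ e i) := (normalize_associated (p i)).symm.pow_pow
    exact Ideal.span_singleton_eq_span_singleton.2 h
  have htriv : ∀ i, e i = 0 → Subsingleton (F[X] ⧸ (Submodule.span F[X] {p i ^ e i})) := by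
    intro i hi
    rw [hi, pow_zero]
    exact Submodule.Quotient.subsingleton_iff.2 Ideal.span_singleton_one
  let A : (DirectSum ι fun i => F[X] ⧸ (Submodule.span F[X] {p i ^ e i})) ≃ₗ[F[X]]
      (∀ i, F[X] ⧸ (Submodule.span F[X] {p i ^ e i})) :=
    DirectSum.linearEquivFunOnFintype F[X] ι (fun i => F[X] ⧸ (Submodule.span F[X] {p i ^ e i}))
  let B : (∀ i, F[X] ⧸ (Submodule.span F[X] {p i ^ e i})) →ₗ[F[X]] (∀ i : ι', Cyc (c i)) :=
    LinearMap.pi fun i : ι' => (Submodule.quotEquivOfEq _ _ (hspan i.1)).toLinearMap.comp (LinearMap.proj i.1)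
  have hB : Function.Bijective B := by
    constructor
    · rw [← LinearMap.ker_eq_bot, LinearMap.ker_eq_bot']
      intro x hx
      funext i
      by_cases hi : e i = 0
      · have := htriv i hi
        exact Subsingleton.elim _ _
      · have h1 := congrFun hx ⟨i, hi⟩
        exact (LinearEquiv.map_eq_zero_iff (Submodule.quotEquivOfEq _ _ (hspan i))).1 h1
    · intro y
      refine ⟨fun i => if h : e i = 0 then 0 else (Submodule.quotEquivOfEq _ _ (hspan i)).symm (y ⟨i, h⟩), ?_⟩
      funext i
      show (Submodule.quotEquivOfEq _ _ (hspan i.1)) (dite _ _ _) = _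
      rw [dif_neg i.2, LinearEquiv.apply_symm_apply]
  let E : Module.AEval' T ≃ₗ[F[X]] (∀ i : ι', Cyc (c i)) :=
    φ.trans (A.trans (LinearEquiv.ofBijective B hB))
  refine ⟨Finset.univ.val.map c, ?_, isED_of_family c ((Module.AEval'.of T).trans (E.restrictScalars F)) ?_⟩
  · intro x hx
    rw [Multiset.mem_map] at hx
    obtain ⟨i, -, rfl⟩ := hx
    exact ⟨Polynomial.monic_normalize (hpne i.1), (normalize_associated (p i.1)).symm.irreducible (hp i.1),
      Nat.one_le_iff_ne_zero.2 i.2⟩
  · intro v
    show E (Module.AEval'.of T (T v)) = X • E (Module.AEval'.of T v)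
    rw [← map_smul, Module.AEval'.X_smul_of]

/-- equal elementary divisors ⇒ similar -/
theorem IsED.exists_equiv {T : V →ₗ[F] V} {U : W →ₗ[F] W} {M : Multiset (F[X] × ℕ)} (h : IsED T M)
    (h' : IsED U M) : ∃ x : V ≃ₗ[F] W, ∀ v, x (T v) = U (x v) := by
  obtain ⟨n, c, hc, ψ, hψ⟩ := h
  obtain ⟨n', c', hc', ψ', hψ'⟩ := h'
  obtain ⟨σ, hσ⟩ := H174.exists_equiv_of_map_eq (hc.trans hc'.symm)
  let ρ : (∀ k, Cyc (c' k)) ≃ₗ[F[X]] (∀ i, Cyc (c' (σ i))) :=
    LinearEquiv.piCongrLeft' F[X] (fun i => Cyc (c' i)) σ.symm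
  let τ : (∀ i, Cyc (c' (σ i))) ≃ₗ[F[X]] (∀ i, Cyc (c i)) :=
    LinearEquiv.piCongrRight fun i => Submodule.quotEquivOfEq _ _ (by rw [hσ i])
  refine ⟨ψ.trans ((((ρ.trans τ).symm).restrictScalars F).trans ψ'.symm), fun v => ?_⟩
  simp only [LinearEquiv.trans_apply]
  apply ψ'.injective
  rw [hψ', LinearEquiv.apply_symm_apply, LinearEquiv.apply_symm_apply, hψ]
  exact map_smul ((ρ.trans τ).symm) X (ψ v)

theorem aeval_comm {T : V →ₗ[F] V} {n : ℕ} {c : Fin n → F[X] × ℕ} (ψ : V ≃ₗ[F] (∀ i, Cyc (c i)))
    (hψ : ∀ v, ψ (T v) = (X : F[X]) • ψ v) (a : F[X]) (v : V) : ψ (aeval T a v) = a • ψ v := by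
  induction a using Polynomial.induction_on' with
  | add a b ha hb =>
    rw [map_add, LinearMap.add_apply, map_add, ha, hb]
    exact (add_smul a b (ψ v)).symm
  | monomial k r =>
    have hk : ∀ v, ψ ((T ^ k) v) = (X : F[X]) ^ k • ψ v := by
      induction k with
      | zero => intro v; simp
      | succ k ih =>
        intro v
        rw [pow_succ', Module.End.mul_apply, hψ, ih, smul_smul, ← pow_succ']
    rw [aeval_monomial, Module.End.mul_apply, Module.algebraMap_end_apply, map_smul, hk,
      ← C_mul_X_pow_eq_monomial, ← Polynomial.algebraMap_eq]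
    funext i
    rw [Pi.smul_apply, Pi.smul_apply, Pi.smul_apply, mul_smul, algebraMap_smul]

/-- multiplication by `a` on a cyclic module -/
noncomputable def mulMap (a : F[X]) (c : F[X] × ℕ) : Cyc c →ₗ[F] Cyc c :=
  (LinearMap.lsmul F[X] (Cyc c) a).restrictScalars F

theorem mulMap_apply (a : F[X]) (c : F[X] × ℕ) (x : Cyc c) : mulMap a c x = a • x := rfl

theorem finiteDimensional_cyc (c : F[X] × ℕ) (hc : c.1 ≠ 0) : FiniteDimensional F (Cyc c) := by
  have h : c.1 ^ c.2 ≠ 0 := pow_ne_zero _ hc
  exact (AdjoinRoot.powerBasis h).finite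

theorem finrank_cyc (c : F[X] × ℕ) : finrank F (Cyc c) = c.2 * c.1.natDegree := by
  have h : finrank F (F[X] ⧸ (Ideal.span {c.1 ^ c.2})) = (c.1 ^ c.2).natDegree :=
    finrank_quotient_span_eq_natDegree
  rw [natDegree_pow] at h
  exact h

/-- kernel of multiplication by `a` on `F[X]/(a b)` -/
theorem finrank_ker_aux (a b f : F[X]) (hf : f = a * b) (hf0 : f ≠ 0) :
    finrank F (LinearMap.ker ((LinearMap.lsmul F[X] (F[X] ⧸ (Submodule.span F[X] {f})) a).restrictScalars F)) =
      a.natDegree := by
  have ha : a ≠ 0 := by rintro rfl; rw [zero_mul] at hf; exact hf0 hf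
  have hb : b ≠ 0 := by rintro rfl; rw [mul_zero] at hf; exact hf0 hf
  have : FiniteDimensional F (F[X] ⧸ (Submodule.span F[X] {f})) := (AdjoinRoot.powerBasis hf0).finite
  set m := (LinearMap.lsmul F[X] (F[X] ⧸ (Submodule.span F[X] {f})) a).restrictScalars F with hm
  have h1 := LinearMap.finrank_range_add_finrank_ker m
  have h2 : finrank F (F[X] ⧸ (Submodule.span F[X] {f})) = f.natDegree := finrank_quotient_span_eq_natDegree
  -- the range is isomorphic to `F[X]/(b)`
  let φ : F[X] →ₗ[F[X]] (F[X] ⧸ (Submodule.span F[X] {f})) :=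
    (LinearMap.lsmul F[X] (F[X] ⧸ (Submodule.span F[X] {f})) a).comp (Submodule.span F[X] {f}).mkQ
  have hker : LinearMap.ker φ = Submodule.span F[X] {b} := by
    ext x
    rw [LinearMap.mem_ker]
    have h0 : φ x = (Submodule.span F[X] {f}).mkQ (a * x) := rfl
    rw [h0, Submodule.mkQ_apply, Submodule.Quotient.mk_eq_zero]
    show a * x ∈ Ideal.span {f} ↔ x ∈ Ideal.span {b}
    rw [Ideal.mem_span_singleton, Ideal.mem_span_singleton, hf, mul_dvd_mul_iff_left ha]
  have hrange : (LinearMap.range φ).restrictScalars F = LinearMap.range m := by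
    ext x
    rw [Submodule.restrictScalars_mem, LinearMap.mem_range, LinearMap.mem_range]
    constructor
    · rintro ⟨y, rfl⟩
      exact ⟨Submodule.Quotient.mk y, rfl⟩
    · rintro ⟨y, rfl⟩
      obtain ⟨y, rfl⟩ := Submodule.mkQ_surjective _ y
      exact ⟨y, rfl⟩
  have h3 : finrank F (LinearMap.range m) = b.natDegree := by
    rw [← hrange]
    have e1 : (F[X] ⧸ LinearMap.ker φ) ≃ₗ[F[X]] LinearMap.range φ := φ.quotKerEquivRange
    have e2 : (F[X] ⧸ (Submodule.span F[X] {b})) ≃ₗ[F[X]] LinearMap.range φ :=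
      (Submodule.quotEquivOfEq _ _ hker.symm).trans e1
    have h4 : finrank F (F[X] ⧸ (Submodule.span F[X] {b})) = b.natDegree := finrank_quotient_span_eq_natDegree
    rw [← h4]
    exact (LinearEquiv.finrank_eq (e2.restrictScalars F)).symm
  have h5 : f.natDegree = a.natDegree + b.natDegree := by rw [hf, natDegree_mul ha hb]
  rw [h2, h3] at h1
  omega

/-- kernel dimensions for powers of irreducible polynomials -/
theorem finrank_ker_mulMap [DecidableEq F[X]] {p : F[X]} (hp : p.Monic) (hpi : Irreducible p) (j : ℕ) {c : F[X] × ℕ}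
    (hc : c.1.Monic) (hci : Irreducible c.1) :
    finrank F (LinearMap.ker (mulMap (p ^ j) c)) = if c.1 = p then min j c.2 * p.natDegree else 0 := by
  obtain ⟨r, e⟩ := c
  simp only at hc hci ⊢
  split_ifs with h
  · subst h
    rcases le_total j e with hj | hj
    · have h1 := finrank_ker_aux (r ^ j) (r ^ (e - j)) (r ^ e) (by rw [← pow_add]; congr 1; omega)
        (pow_ne_zero _ hc.ne_zero)
      rw [min_eq_left hj, ← natDegree_pow]
      exact h1
    · rw [min_eq_right hj]
      have h1 : LinearMap.ker (mulMap (r ^ j) (r, e)) = ⊤ := by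
        rw [eq_top_iff]
        intro x _
        rw [LinearMap.mem_ker, mulMap_apply]
        obtain ⟨y, rfl⟩ := Submodule.mkQ_surjective _ x
        rw [← map_smul, Submodule.mkQ_apply, Submodule.Quotient.mk_eq_zero]
        show r ^ j * y ∈ Ideal.span {r ^ e}
        rw [Ideal.mem_span_singleton]
        exact (pow_dvd_pow r hj).mul_right y
      rw [h1, finrank_top]
      exact finrank_cyc (r, e)
  · have hcop : IsCoprime (p ^ j) (r ^ e) := by
      apply IsCoprime.pow
      rw [hpi.coprime_iff_not_dvd]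
      intro hd
      exact h (eq_of_monic_of_associated hc hp ((hpi.associated_of_dvd hci hd).symm))
    obtain ⟨u, v, huv⟩ := hcop
    have h1 : LinearMap.ker (mulMap (p ^ j) (r, e)) = ⊥ := by
      rw [LinearMap.ker_eq_bot']
      intro x hx
      rw [mulMap_apply] at hx
      have h2 : (r ^ e) • x = 0 := by
        obtain ⟨y, rfl⟩ := Submodule.mkQ_surjective _ x
        rw [← map_smul, Submodule.mkQ_apply, Submodule.Quotient.mk_eq_zero]
        show r ^ e * y ∈ Ideal.span {r ^ e}
        rw [Ideal.mem_span_singleton]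
        exact dvd_mul_right _ _
      rw [← one_smul F[X] x, ← huv, add_smul, mul_smul, mul_smul, hx, h2, smul_zero, smul_zero, add_zero]
    rw [h1, finrank_bot]

theorem IsED.finrank_ker [FiniteDimensional F V] {T : V →ₗ[F] V} {M : Multiset (F[X] × ℕ)} (h : IsED T M)
    (hM : Good M) (a : F[X]) :
    finrank F (LinearMap.ker (aeval T a)) = (M.map fun c => finrank F (LinearMap.ker (mulMap a c))).sum := by
  obtain ⟨n, c, rfl, ψ, hψ⟩ := h
  have hgood : ∀ i, c i ∈ (Finset.univ.val.map c : Multiset (F[X] × ℕ)) := fun i =>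
    Multiset.mem_map_of_mem c (Finset.mem_univ_val i)
  have hfd : ∀ i, FiniteDimensional F (Cyc (c i)) := fun i =>
    finiteDimensional_cyc (c i) (hM _ (hgood i)).1.ne_zero
  rw [Multiset.map_map]
  show _ = ∑ i, finrank F (LinearMap.ker (mulMap a (c i)))
  have hfree : ∀ i, Module.Free F (LinearMap.ker (mulMap a (c i))) := fun i => Module.Free.of_divisionRing F _
  rw [← Module.finrank_pi_fintype F]
  refine LinearEquiv.finrank_eq
    { toFun := fun v i => ⟨ψ v i, by
        rw [LinearMap.mem_ker, mulMap_apply, ← Pi.smul_apply, ← aeval_comm ψ hψ, v.2, map_zero]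
        rfl⟩
      map_add' := fun v w => by
        funext i
        apply Subtype.ext
        simp
      map_smul' := fun r v => by
        funext i
        apply Subtype.ext
        simp
      invFun := fun x => ⟨ψ.symm (fun i => x i), by
        rw [LinearMap.mem_ker]
        apply ψ.injective
        rw [aeval_comm ψ hψ, LinearEquiv.apply_symm_apply, map_zero]
        funext i
        exact (x i).2⟩
      left_inv := fun v => by
        apply Subtype.ext
        exact ψ.symm_apply_apply v
      right_inv := fun x => by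
        funext i
        apply Subtype.ext
        show ψ (ψ.symm _) i = _
        rw [LinearEquiv.apply_symm_apply] }

theorem IsED.finrank_eq [FiniteDimensional F V] {T : V →ₗ[F] V} {M : Multiset (F[X] × ℕ)} (h : IsED T M)
    (hM : Good M) : finrank F V = (M.map fun c => c.2 * c.1.natDegree).sum := by
  have h1 := h.finrank_ker hM 0
  rw [map_zero, LinearMap.ker_zero, finrank_top] at h1
  rw [h1]
  congr 1
  refine Multiset.map_congr rfl fun c _ => ?_
  rw [← finrank_cyc]
  have : LinearMap.ker (mulMap 0 c) = ⊤ := by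
    rw [eq_top_iff]
    intro x _
    rw [LinearMap.mem_ker, mulMap_apply, zero_smul]
  rw [this, finrank_top]

/-- **The multiplicities from the dimensions of kernels.** -/
theorem IsED.count [FiniteDimensional F V] [DecidableEq F[X]] {T : V →ₗ[F] V} {M : Multiset (F[X] × ℕ)} (h : IsED T M)
    (hM : Good M) {p : F[X]} (hp : p.Monic) (hpi : Irreducible p) (j : ℕ) :
    finrank F (LinearMap.ker (aeval T (p ^ (j + 1)))) + finrank F (LinearMap.ker (aeval T (p ^ (j + 1)))) =
      finrank F (LinearMap.ker (aeval T (p ^ j))) + finrank F (LinearMap.ker (aeval T (p ^ (j + 2)))) +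
        M.count (p, j + 1) * p.natDegree := by
  rw [h.finrank_ker hM, h.finrank_ker hM, h.finrank_ker hM]
  clear h
  induction M using Multiset.induction with
  | empty => simp
  | cons c M ih =>
    have ih' := ih (fun c hc => hM c (Multiset.mem_cons_of_mem hc))
    obtain ⟨hc, hci, he⟩ := hM c (Multiset.mem_cons_self c M)
    rw [Multiset.map_cons, Multiset.sum_cons, Multiset.map_cons, Multiset.sum_cons, Multiset.map_cons,
      Multiset.sum_cons, finrank_ker_mulMap hp hpi _ hc hci, finrank_ker_mulMap hp hpi _ hc hci,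
      finrank_ker_mulMap hp hpi _ hc hci, Multiset.count_cons]
    obtain ⟨r, e⟩ := c
    simp only at hc hci he ⊢
    by_cases h1 : r = p
    · subst h1
      simp only [if_true]
      by_cases h2 : j + 1 = e
      · subst h2
        simp only [if_true]
        rw [min_eq_left (show j + 1 ≤ j + 1 from le_rfl), min_eq_left (show j ≤ j + 1 by omega),
          min_eq_right (show j + 1 ≤ j + 2 by omega)]
        nlinarith
      · rw [if_neg (by rintro ⟨⟩; exact h2 rfl)]
        have h3 : min (j + 1) e + min (j + 1) e = min j e + min (j + 2) e := by omega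
        have h4 : (min (j + 1) e) * r.natDegree + (min (j + 1) e) * r.natDegree =
          (min j e) * r.natDegree + (min (j + 2) e) * r.natDegree := by
          rw [← add_mul, ← add_mul, h3]
        rw [add_zero]
        omega
    · rw [if_neg h1, if_neg h1, if_neg h1, if_neg (by rintro ⟨⟩; exact h1 rfl), add_zero]
      omega

theorem natDegree_pos {p : F[X]} (hpi : Irreducible p) : 0 < p.natDegree := hpi.natDegree_pos

/-- two maps with the same dimensions of kernels have the same elementary divisors -/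
theorem IsED.unique [FiniteDimensional F V] [FiniteDimensional F W] {T : V →ₗ[F] V} {U : W →ₗ[F] W}
    {M N : Multiset (F[X] × ℕ)} (h : IsED T M)
    (hM : Good M) (h' : IsED U N) (hN : Good N)
    (hker : ∀ a : F[X], finrank F (LinearMap.ker (aeval T a)) = finrank F (LinearMap.ker (aeval U a))) :
    M = N := by
  classical
  ext ⟨p, j⟩
  by_cases hp : p.Monic ∧ Irreducible p ∧ 1 ≤ j
  · obtain ⟨hp1, hp2, hj⟩ := hp
    obtain ⟨j, rfl⟩ : ∃ k, j = k + 1 := ⟨j - 1, by omega⟩
    have h1 := h.count hM hp1 hp2 j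
    have h2 := h'.count hN hp1 hp2 j
    rw [hker, hker, hker] at h1
    have h3 : M.count (p, j + 1) * p.natDegree = N.count (p, j + 1) * p.natDegree := by omega
    exact Nat.eq_of_mul_eq_mul_right (natDegree_pos hp2) h3
  · rw [Multiset.count_eq_zero_of_notMem (fun hh => hp (hM _ hh)),
      Multiset.count_eq_zero_of_notMem (fun hh => hp (hN _ hh))]

end Cfsg.Agent.H171.ElemDiv
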