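import Mathlib
set_option linter.all false

/-!
# Palindromic polynomials

`Pal f`: monic with `f.reverse = f`. Products; odd degree ⇒ root `-1`; the number of palindromic polynomials of
degree `2d` over a field with `q` elements is `q ^ d`; if `f` is palindromic of even degree and `f(1) ≠ 0`, so is
`f (X-1)^(2a)`, and `(f, a)` is determined by the product.
-/

set_option autoImplicit false

namespace Cfsg.Agent.H171

open Polynomial

variable {F : Type*} [Field F]

/-- monic palindromic -/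
def Pal (f : F[X]) : Prop := f.Monic ∧ f.reverse = f

theorem Pal.one : Pal (1 : F[X]) := ⟨monic_one, by
  rw [← C_1, reverse_C]⟩

theorem Pal.mul {f g : F[X]} (hf : Pal f) (hg : Pal g) : Pal (f * g) :=
  ⟨hf.1.mul hg.1, by rw [reverse_mul_of_domain, hf.2, hg.2]⟩

theorem Pal.pow {f : F[X]} (hf : Pal f) (n : ℕ) : Pal (f ^ n) := by
  induction n with
  | zero => rw [pow_zero]; exact Pal.one
  | succ n ih => rw [pow_succ]; exact ih.mul hf

theorem Pal.coeff_zero {f : F[X]} (hf : Pal f) : f.coeff 0 = 1 := by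
  have h1 : f.reverse.coeff 0 = f.leadingCoeff := coeff_zero_reverse f
  rw [hf.2] at h1
  rw [h1, hf.1.leadingCoeff]

theorem Pal.coeff {f : F[X]} (hf : Pal f) {i : ℕ} (hi : i ≤ f.natDegree) : f.coeff (f.natDegree - i) = f.coeff i := by
  have h1 : f.reverse.coeff i = f.coeff (revAt f.natDegree i) := coeff_reverse f i
  rw [hf.2, revAt_le hi] at h1
  exact h1.symm

theorem pal_of_coeff {f : F[X]} (hm : f.Monic) (h : ∀ i ≤ f.natDegree, f.coeff (f.natDegree - i) = f.coeff i) :
    Pal f := by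
  refine ⟨hm, ?_⟩
  ext i
  rw [coeff_reverse]
  rcases le_or_gt i f.natDegree with hi | hi
  · rw [revAt_le hi, h i hi]
  · rw [revAt_eq_self_of_lt hi]

theorem pal_sq : Pal ((X - C 1 : F[X]) ^ 2) := by
  have h1 : ((X - C 1 : F[X]) ^ 2).natDegree = 2 := by
    rw [natDegree_pow, natDegree_X_sub_C]
  have h2 : (X - C 1 : F[X]) ^ 2 = X ^ 2 - C 2 * X + C 1 := by
    rw [sub_sq, show (C 2 : F[X]) = 2 from rfl]
    simp
  apply pal_of_coeff ((monic_X_sub_C 1).pow 2)
  intro i hi
  rw [h1] at hi ⊢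
  rw [h2]
  interval_cases i <;> simp [coeff_X, coeff_one, coeff_X_pow, coeff_C]

/-- a palindromic polynomial of odd degree vanishes at `-1` -/
theorem Pal.even_natDegree {f : F[X]} (hf : Pal f) (h : f.eval (-1) ≠ 0) : Even f.natDegree := by
  by_contra hodd
  rw [Nat.not_even_iff_odd] at hodd
  apply h
  rw [eval_eq_sum_range]
  refine Finset.sum_involution (fun i _ => f.natDegree - i) ?_ ?_ ?_ ?_
  · intro i hi
    rw [Finset.mem_range, Nat.lt_succ_iff] at hi
    rw [hf.coeff hi, ← mul_add]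
    have h1 : ((-1 : F)) ^ (f.natDegree - i) = - (-1) ^ i := by
      rcases Nat.even_or_odd i with h2 | h2
      · rw [h2.neg_one_pow, (Nat.Odd.sub_even hi hodd h2).neg_one_pow]
      · rw [h2.neg_one_pow, (Nat.Odd.sub_odd hodd h2).neg_one_pow, neg_neg]
    rw [h1, add_neg_cancel, mul_zero]
  · intro i hi _ heq
    rw [Finset.mem_range, Nat.lt_succ_iff] at hi
    obtain ⟨k, hk⟩ := hodd
    omega
  · intro i hi
    rw [Finset.mem_range, Nat.lt_succ_iff] at hi ⊢
    omega
  · intro i hi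
    rw [Finset.mem_range, Nat.lt_succ_iff] at hi
    omega

/-- the coefficients of the palindromic polynomial with given free coefficients -/
def palCoeff {d : ℕ} (a : Fin d → F) (i : ℕ) : F :=
  if h : 1 ≤ min i (2 * d - i) then a ⟨min i (2 * d - i) - 1, by omega⟩ else 1

/-- the palindromic polynomial with given free coefficients -/
noncomputable def palPoly {d : ℕ} (a : Fin d → F) : F[X] :=
  ∑ i ∈ Finset.range (2 * d + 1), C (palCoeff a i) * X ^ i

theorem palPoly_coeff {d : ℕ} (a : Fin d → F) (i : ℕ) :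
    (palPoly a).coeff i = if i ≤ 2 * d then palCoeff a i else 0 := by
  classical
  unfold palPoly
  rw [finsetSum_coeff]
  simp only [coeff_C_mul, coeff_X_pow, mul_ite, mul_one, mul_zero]
  rw [Finset.sum_ite_eq]
  simp only [Finset.mem_range, Nat.lt_succ_iff]

theorem palPoly_natDegree {d : ℕ} (a : Fin d → F) : (palPoly a).natDegree = 2 * d := by
  apply natDegree_eq_of_le_of_coeff_ne_zero
  · rw [natDegree_le_iff_coeff_eq_zero]
    intro i hi
    rw [palPoly_coeff, if_neg (by omega)]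
  · rw [palPoly_coeff, if_pos le_rfl]
    unfold palCoeff
    rw [dif_neg (by omega)]
    exact one_ne_zero

theorem palPoly_pal {d : ℕ} (a : Fin d → F) : Pal (palPoly a) := by
  apply pal_of_coeff
  · unfold Monic leadingCoeff
    rw [palPoly_natDegree, palPoly_coeff, if_pos le_rfl]
    unfold palCoeff
    rw [dif_neg (by omega)]
  · intro i hi
    rw [palPoly_natDegree] at hi ⊢
    rw [palPoly_coeff, palPoly_coeff, if_pos hi, if_pos (by omega)]
    unfold palCoeff
    have h1 : min (2 * d - i) (2 * d - (2 * d - i)) = min i (2 * d - i) := by omega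
    simp only [h1]

/-- **The number of monic palindromic polynomials of degree `2d`.** -/
theorem card_pal (F : Type*) [Field F] [Finite F] (d : ℕ) :
    Nat.card {f : F[X] // Pal f ∧ f.natDegree = 2 * d} = Nat.card F ^ d := by
  classical
  have hfin := Fintype.ofFinite F
  have e : {f : F[X] // Pal f ∧ f.natDegree = 2 * d} ≃ (Fin d → F) := by
    refine Equiv.ofBijective (fun f i => f.1.coeff (i.1 + 1)) ⟨?_, ?_⟩
    · rintro ⟨f, hf, hfd⟩ ⟨g, hg, hgd⟩ hfg
      have hlow : ∀ i, i ≤ d → f.coeff i = g.coeff i := by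
        intro i hi
        rcases Nat.eq_zero_or_pos i with rfl | hi0
        · rw [hf.coeff_zero, hg.coeff_zero]
        · have h1 := congrFun hfg ⟨i - 1, by omega⟩
          simp only at h1
          rwa [Nat.sub_add_cancel hi0] at h1
      apply Subtype.ext
      ext i
      rcases le_or_gt i d with hi | hi
      · exact hlow i hi
      rcases le_or_gt i (2 * d) with hi2 | hi2
      · have h1 := hf.coeff (i := 2 * d - i) (by omega)
        have h2 := hg.coeff (i := 2 * d - i) (by omega)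
        rw [hfd, show 2 * d - (2 * d - i) = i by omega] at h1
        rw [hgd, show 2 * d - (2 * d - i) = i by omega] at h2
        show f.coeff i = g.coeff i
        rw [h1, h2]
        exact hlow _ (by omega)
      · show f.coeff i = g.coeff i
        rw [coeff_eq_zero_of_natDegree_lt (by omega), coeff_eq_zero_of_natDegree_lt (by omega)]
    · intro a
      refine ⟨⟨palPoly a, palPoly_pal a, palPoly_natDegree a⟩, ?_⟩
      funext i
      have hi := i.2
      simp only
      rw [palPoly_coeff, if_pos (by omega)]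
      unfold palCoeff
      rw [dif_pos (by omega)]
      congr 1
      apply Fin.ext
      show min (i.1 + 1) (2 * d - (i.1 + 1)) - 1 = i.1
      omega
  rw [Nat.card_congr e, Nat.card_eq_fintype_card, Fintype.card_fun, Fintype.card_fin, Nat.card_eq_fintype_card]

theorem finite_pal (F : Type*) [Field F] [Finite F] (d : ℕ) :
    Finite {f : F[X] // Pal f ∧ f.natDegree = 2 * d} := by
  apply Nat.finite_of_card_ne_zero
  rw [card_pal]
  exact pow_ne_zero _ Nat.card_pos.ne'

/-- `f (X - c) ^ m` determines `f` and `m` if `f c ≠ 0` -/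
theorem mul_pow_inj {f g : F[X]} {c : F} {m n : ℕ} (hf : f.eval c ≠ 0) (hg : g.eval c ≠ 0)
    (h : f * (X - C c) ^ m = g * (X - C c) ^ n) : f = g ∧ m = n := by
  have key : ∀ (f : F[X]) (m : ℕ), f.eval c ≠ 0 → rootMultiplicity c (f * (X - C c) ^ m) = m := by
    intro f m hf
    have hf0 : f ≠ 0 := by
      rintro rfl
      exact hf eval_zero
    rw [rootMultiplicity_mul (mul_ne_zero hf0 (pow_ne_zero _ (X_sub_C_ne_zero c))),
      rootMultiplicity_eq_zero hf, zero_add, rootMultiplicity_X_sub_C_pow]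
  have hmn : m = n := by rw [← key f m hf, h, key g n hg]
  subst hmn
  exact ⟨mul_right_cancel₀ (pow_ne_zero _ (X_sub_C_ne_zero c)) h, rfl⟩

/-- the pairs `(f, a)`, `f` palindromic, `f 1 ≠ 0`, of total degree `2 d`: injection to palindromic polynomials -/
theorem card_pair_le (F : Type*) [Field F] [Finite F] (d : ℕ) :
    Finite {x : F[X] × ℕ // Pal x.1 ∧ x.1.eval 1 ≠ 0 ∧ x.1.natDegree + 2 * x.2 = 2 * d} ∧
    Nat.card {x : F[X] × ℕ // Pal x.1 ∧ x.1.eval 1 ≠ 0 ∧ x.1.natDegree + 2 * x.2 = 2 * d} ≤ Nat.card F ^ d := by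
  have hfin := finite_pal F d
  let φ : {x : F[X] × ℕ // Pal x.1 ∧ x.1.eval 1 ≠ 0 ∧ x.1.natDegree + 2 * x.2 = 2 * d} →
      {f : F[X] // Pal f ∧ f.natDegree = 2 * d} := fun x =>
    ⟨x.1.1 * ((X - C 1) ^ 2) ^ x.1.2, x.2.1.mul (pal_sq.pow _), by
      rw [(x.2.1.1).natDegree_mul (((monic_X_sub_C (1 : F)).pow 2).pow _), ← pow_mul, natDegree_pow,
        natDegree_X_sub_C, mul_one]
      exact x.2.2.2⟩
  have hφ : Function.Injective φ := by
    rintro ⟨⟨f, a⟩, hf⟩ ⟨⟨g, b⟩, hg⟩ hfg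
    have h1 : f * ((X - C 1) ^ 2) ^ a = g * ((X - C 1) ^ 2) ^ b := congrArg Subtype.val hfg
    rw [← pow_mul, ← pow_mul] at h1
    obtain ⟨h2, h3⟩ := mul_pow_inj hf.2.1 hg.2.1 h1
    subst h2
    have h4 : a = b := by omega
    subst h4
    rfl
  refine ⟨Finite.of_injective φ hφ, ?_⟩
  rw [← card_pal F d]
  exact Nat.card_le_card_of_injective φ hφ

/-- the triples `(f, a, b)`, `f` palindromic, `f 1 ≠ 0`, `f (-1) ≠ 0`, of total degree `2 d`, in odd characteristic -/
theorem card_triple_le (F : Type*) [Field F] [Finite F] (h2 : (2 : F) ≠ 0) (d : ℕ) :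
    Finite {x : F[X] × ℕ × ℕ // Pal x.1 ∧ x.1.eval 1 ≠ 0 ∧ x.1.eval (-1) ≠ 0 ∧
      x.1.natDegree + 2 * x.2.1 + 2 * x.2.2 = 2 * d} ∧
    Nat.card {x : F[X] × ℕ × ℕ // Pal x.1 ∧ x.1.eval 1 ≠ 0 ∧ x.1.eval (-1) ≠ 0 ∧
      x.1.natDegree + 2 * x.2.1 + 2 * x.2.2 = 2 * d} ≤ Nat.card F ^ d := by
  have hfin := finite_pal F d
  have hpal : Pal ((X - C (-1) : F[X]) ^ 2) := by
    have h1 : ((X - C (-1) : F[X]) ^ 2).natDegree = 2 := by
      rw [natDegree_pow, natDegree_X_sub_C]
    have h2 : (X - C (-1) : F[X]) ^ 2 = X ^ 2 + C 2 * X + C 1 := by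
      rw [sub_sq, show (C 2 : F[X]) = 2 from rfl]
      simp
    apply pal_of_coeff ((monic_X_sub_C (-1)).pow 2)
    intro i hi
    rw [h1] at hi ⊢
    rw [h2]
    interval_cases i <;> simp [coeff_X, coeff_one, coeff_X_pow, coeff_C]
  let φ : {x : F[X] × ℕ × ℕ // Pal x.1 ∧ x.1.eval 1 ≠ 0 ∧ x.1.eval (-1) ≠ 0 ∧
      x.1.natDegree + 2 * x.2.1 + 2 * x.2.2 = 2 * d} →
      {f : F[X] // Pal f ∧ f.natDegree = 2 * d} := fun x =>
    ⟨x.1.1 * ((X - C (-1)) ^ 2) ^ x.1.2.2 * ((X - C 1) ^ 2) ^ x.1.2.1,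
      (x.2.1.mul (hpal.pow _)).mul (pal_sq.pow _), by
      rw [((x.2.1.1).mul (((monic_X_sub_C (-1 : F)).pow 2).pow _)).natDegree_mul
          (((monic_X_sub_C (1 : F)).pow 2).pow _),
        (x.2.1.1).natDegree_mul (((monic_X_sub_C (-1 : F)).pow 2).pow _), ← pow_mul, natDegree_pow,
        natDegree_X_sub_C, mul_one, ← pow_mul, natDegree_pow,
        natDegree_X_sub_C, mul_one]
      have := x.2.2.2.2
      omega⟩
  have hφ : Function.Injective φ := by
    rintro ⟨⟨f, a, a'⟩, hf⟩ ⟨⟨g, b, b'⟩, hg⟩ hfg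
    have h1 : f * ((X - C (-1)) ^ 2) ^ a' * ((X - C 1) ^ 2) ^ a =
      g * ((X - C (-1)) ^ 2) ^ b' * ((X - C 1) ^ 2) ^ b := congrArg Subtype.val hfg
    rw [← pow_mul, ← pow_mul, ← pow_mul, ← pow_mul] at h1
    have hne : ∀ k : ℕ, ((X - C (-1) : F[X]) ^ k).eval 1 ≠ 0 := by
      intro k
      rw [eval_pow, eval_sub, eval_X, eval_C, sub_neg_eq_add, one_add_one_eq_two]
      exact pow_ne_zero _ h2
    obtain ⟨h3, h4⟩ := mul_pow_inj (c := (1 : F)) (by rw [eval_mul]; exact mul_ne_zero hf.2.1 (hne _))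
      (by rw [eval_mul]; exact mul_ne_zero hg.2.1 (hne _)) h1
    obtain ⟨h5, h6⟩ := mul_pow_inj (c := (-1 : F)) hf.2.2.1 hg.2.2.1 h3
    subst h5
    have h7 : a = b := by omega
    have h8 : a' = b' := by omega
    subst h7
    subst h8
    rfl
  refine ⟨Finite.of_injective φ hφ, ?_⟩
  rw [← card_pal F d]
  exact Nat.card_le_card_of_injective φ hφ

/-- in characteristic two a palindromic polynomial of even degree is `f (X - 1) ^ (2 a)`, `f` palindromic -/
theorem Pal.exists_eq [CharP F 2] {f : F[X]} (hf : Pal f) (he : Even f.natDegree) :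
    ∃ (g : F[X]) (a : ℕ), Pal g ∧ g.eval 1 ≠ 0 ∧ f = g * ((X - C 1) ^ 2) ^ a := by
  have hlin : Pal (X - C 1 : F[X]) := by
    apply pal_of_coeff (monic_X_sub_C 1)
    intro i hi
    rw [natDegree_X_sub_C] at hi ⊢
    interval_cases i
    · simp [coeff_one, CharTwo.neg_eq]
    · simp [coeff_one, CharTwo.neg_eq]
  have hne : f ≠ 0 := hf.1.ne_zero
  obtain ⟨g, hg1, hg2⟩ := exists_eq_pow_rootMultiplicity_mul_and_not_dvd f hne (1 : F)
  set m := rootMultiplicity 1 f
  have hgm : g.Monic := by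
    have h1 := hf.1
    rw [hg1] at h1
    exact Monic.of_mul_monic_left ((monic_X_sub_C 1).pow m) h1
  have hgp : Pal g := by
    refine ⟨hgm, ?_⟩
    have h1 := hf.2
    rw [hg1, reverse_mul_of_domain, (hlin.pow m).2] at h1
    exact mul_left_cancel₀ (pow_ne_zero m (X_sub_C_ne_zero (1 : F))) h1
  have hg3 : g.eval 1 ≠ 0 := fun h => hg2 (dvd_iff_isRoot.2 h)
  have hge : Even g.natDegree := by
    apply hgp.even_natDegree
    rwa [CharTwo.neg_eq]
  have hdeg : f.natDegree = m + g.natDegree := by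
    have h1 : f.natDegree = ((X - C 1) ^ m * g).natDegree := congrArg natDegree hg1
    rw [h1, ((monic_X_sub_C (1 : F)).pow m).natDegree_mul hgm, natDegree_pow, natDegree_X_sub_C, mul_one]
  have hme : Even m := by
    rw [hdeg, Nat.even_add] at he
    exact he.2 hge
  obtain ⟨a, ha⟩ := hme
  refine ⟨g, a, hgp, hg3, ?_⟩
  rw [← pow_mul, show 2 * a = m by omega, mul_comm]
  exact hg1

/-- exact number of the pairs in characteristic two -/
theorem card_pair (F : Type*) [Field F] [Finite F] [CharP F 2] (d : ℕ) :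
    Nat.card {x : F[X] × ℕ // Pal x.1 ∧ x.1.eval 1 ≠ 0 ∧ x.1.natDegree + 2 * x.2 = 2 * d} = Nat.card F ^ d := by
  have hfin1 := (card_pair_le F d).1
  apply le_antisymm (card_pair_le F d).2
  rw [← card_pal F d]
  have key : ∀ f : {f : F[X] // Pal f ∧ f.natDegree = 2 * d},
      ∃ x : {x : F[X] × ℕ // Pal x.1 ∧ x.1.eval 1 ≠ 0 ∧ x.1.natDegree + 2 * x.2 = 2 * d},
        f.1 = x.1.1 * ((X - C 1) ^ 2) ^ x.1.2 := by
    rintro ⟨f, hf, hfd⟩
    obtain ⟨g, a, hg, hg1, hfg⟩ := hf.exists_eq ⟨d, by omega⟩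
    refine ⟨⟨(g, a), hg, hg1, ?_⟩, hfg⟩
    rw [hfg, hg.1.natDegree_mul (((monic_X_sub_C (1 : F)).pow 2).pow _), ← pow_mul, natDegree_pow,
      natDegree_X_sub_C, mul_one] at hfd
    exact hfd
  choose ψ hψ using key
  apply Nat.card_le_card_of_injective ψ
  intro f g hfg
  apply Subtype.ext
  rw [hψ f, hψ g, hfg]

/-- the number of palindromic polynomials of degree `2 (d + 1)` without the root `1`, characteristic two -/
theorem card_pal_ne (F : Type*) [Field F] [Finite F] [CharP F 2] (d : ℕ) :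
    Nat.card {f : F[X] // Pal f ∧ f.eval 1 ≠ 0 ∧ f.natDegree = 2 * (d + 1)} + Nat.card F ^ d =
      Nat.card F ^ (d + 1) := by
  rw [← card_pair F d, ← card_pair F (d + 1)]
  have hfin1 := (card_pair_le F d).1
  have hfin2 : Finite {f : F[X] // Pal f ∧ f.eval 1 ≠ 0 ∧ f.natDegree = 2 * (d + 1)} := by
    have := finite_pal F (d + 1)
    exact Finite.of_injective
      (fun f : {f : F[X] // Pal f ∧ f.eval 1 ≠ 0 ∧ f.natDegree = 2 * (d + 1)} =>
        (⟨f.1, f.2.1, f.2.2.2⟩ : {f : F[X] // Pal f ∧ f.natDegree = 2 * (d + 1)}))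
      (fun f g hfg => Subtype.ext (congrArg (fun x => x.1) hfg))
  rw [← Nat.card_sum]
  apply Nat.card_congr
  refine Equiv.ofBijective (Sum.elim (fun f => ⟨(f.1, 0), f.2.1, f.2.2.1, by rw [mul_zero, add_zero]; exact f.2.2.2⟩)
    (fun x => ⟨(x.1.1, x.1.2 + 1), x.2.1, x.2.2.1, by have := x.2.2.2; simp only; omega⟩)) ⟨?_, ?_⟩
  · rintro (f | x) (g | y) h
    · have h1 : f.1 = g.1 := congrArg (fun z => z.1.1) h
      rw [Subtype.ext h1]
    · have h1 : 0 = y.1.2 + 1 := congrArg (fun z => z.1.2) h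
      omega
    · have h1 : x.1.2 + 1 = 0 := congrArg (fun z => z.1.2) h
      omega
    · have h1 : x.1.2 + 1 = y.1.2 + 1 := congrArg (fun z => z.1.2) h
      have h2 : x.1.1 = y.1.1 := congrArg (fun z => z.1.1) h
      rw [show x = y from Subtype.ext (Prod.ext h2 (by omega))]
  · rintro ⟨⟨f, a⟩, hf⟩
    rcases Nat.eq_zero_or_pos a with rfl | ha
    · exact ⟨Sum.inl ⟨f, hf.1, hf.2.1, by simpa using hf.2.2⟩, rfl⟩
    · refine ⟨Sum.inr ⟨(f, a - 1), hf.1, hf.2.1, by have := hf.2.2; simp only at this ⊢; omega⟩, ?_⟩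
      apply Subtype.ext
      apply Prod.ext
      · rfl
      · show a - 1 + 1 = a
        omega

end Cfsg.Agent.H171
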